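import Cfsg.Agent.H85.P6.H67_SPSpec

namespace H92 end H92
open H92
namespace H98 end H98
open H98
namespace H85.P6 end H85.P6
open H85.P6
namespace H85.P6.H92 end H85.P6.H92
open H85.P6.H92
namespace H85.P6.H92.SpP end H85.P6.H92.SpP
open H85.P6.H92.SpP
namespace H85.P6.H98 end H85.P6.H98
open H85.P6.H98
namespace H1.P6

/-! STD-SP, slot P2a: all translations of `t X_l` are induced by the centraliser of `Q`. -/

set_option autoImplicit false
set_option linter.unusedSectionVars false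

namespace H92.SpP

open H98 Subgroup H67.SP H67.UA
open H64.SG (Cz Cs Ns cjs mem_Cz mem_Cs)
open H59.SO (AutOn B1 exists_autOn mem_map_e map_mem_Ns mem_Cs_map)
open H67.SA (la)

universe u

section Gen
variable {G : Type*} [Group G] {w w' a a' b b' c : G}

/-- `w` conjugates `a` to `b`. -/
def Sc (w a b : G) : Prop := w * a * w⁻¹ = b

theorem Sc.mul (h : Sc w a b) (h' : Sc w a' b') : Sc w (a * a') (b * b') := by
  rw [Sc, ← conj_mul, h, h']
theorem Sc.comp (h : Sc w a b) (h' : Sc w' b c) : Sc (w' * w) a c := by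
  rw [Sc, ← h', ← h]; group
theorem Sc.inv (h : Sc w a b) : Sc w⁻¹ b a := by rw [Sc, ← h]; group
theorem Sc.cj (h : Sc w a b) (k : G) : Sc (k * w * k⁻¹) (k * a * k⁻¹) (k * b * k⁻¹) := by
  rw [Sc, ← h]; group
theorem Sc.cancel (h : Sc w a a) (h' : Sc w (a * b) (a * b')) : Sc w b b' := by
  rw [Sc, ← conj_mul, h] at h'
  exact mul_left_cancel h'
theorem Sc.uniq (h : Sc w a b) (h' : Sc w a b') : b = b' := Eq.trans (Eq.symm h) h'
theorem Sc.swap (h : Sc w a a) : Sc a w w := by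
  rw [Sc, mul_inv_eq_iff_eq_mul] at h ⊢
  exact h.symm

end Gen

variable {n : ℕ} {F : Type} [Field F] [StarRing F] [TrivialStar F] [CharP F 2] [Finite F]
  [Base n F]

/-- The root elements at `e₀`. -/
noncomputable abbrev Zc (n : ℕ) (c : F) : XU n F := Tc c (ev 0)

section X

variable {u p : XU n F} {c l : F}

theorem Px (hp : p ∈ PP n F) (c : F) : p * Zc n c * p⁻¹ = Zc n c := by
  rw [Tc_conj (FV.iso _) (star_trivial c), mem_Stab.1 hp]

theorem hz (hl : l ≠ 0) (a : F) : hT n F l * Zc n a * (hT n F l)⁻¹ = Zc n (l * l * a) := by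
  rw [Tc_conj (FV.iso _) (star_trivial a), (FV.tor l hl).2.1, Tc_smul, nm, star_trivial]

theorem hy (hl : l ≠ 0) {y : Vn n F} (h : Hy y) : hT n F l * TT y * (hT n F l)⁻¹ = TT y := by
  rw [Tc_conj (FV.iso _) (star_one _), (FV.tor l hl).2.2.2 y h]

theorem QP : QQ n F ≤ PP n F := (FR.o2 _ (ev_ne 0)).1
theorem PQ : PP n F ≤ Ns (QQ n F) := (FR.o2 _ (ev_ne 0)).2.1

theorem Qeq : QQ n F = Cfsg.pCoreOf 2 (PP n F) := (FR.o2 _ (ev_ne 0)).eq

theorem Qcomm {a b : XU n F} (ha : a ∈ QQ n F) (hb : b ∈ QQ n F) : a * b * a⁻¹ = b := by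
  rw [mem_Cs.1 ((FR.cq _ (ev_ne 0)).ge hb) a ha, mul_inv_cancel_right]

theorem h_NP (hl : l ≠ 0) : hT n F l ∈ Ns (PP n F) := by
  refine inv_mem_iff.1 (mem_normalizer_of_cj_le fun a ha => mem_Stab.2 ?_)
  have h1 := mem_Stab.1 (mem_cj.1 ha)
  rw [inv_inv, ac_mul, ac_mul] at h1
  have h2 := congrArg (ac (hT n F l)⁻¹) h1
  have h3 : ac (hT n F l)⁻¹ (ev 0) = l⁻¹ • ev 0 := by
    apply ac_inj (hT n F l)
    rw [ac_ac_inv, ac_smul, (FV.tor l hl).2.1, smul_smul, inv_mul_cancel₀ hl, one_smul]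
  rw [ac_inv_ac, h3, ac_smul] at h2
  exact smul_right_injective _ (inv_ne_zero hl) h2

theorem h_NQ (hl : l ≠ 0) : hT n F l ∈ Ns (QQ n F) := by
  rw [Qeq]
  exact normalizer_le_normalizer_pCoreOf _ (h_NP hl)

theorem TT_conj (g : XU n F) (v : Vn n F) : g * TT v * g⁻¹ = TT (ac g v) :=
  Tc_conj (FV.iso _) (star_one _) g

theorem TT_sq (v : Vn n F) : TT v * TT v = 1 := Tc_mul_self (FV.iso _) (star_one _)

theorem TT_inj {a b : Vn n F} (h : TT a = TT b) : a = b := funext fun i => by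
  have h1 := ac_Tc (FV.iso a) (star_one F) (ev i.rev)
  rw [show Tc 1 a = TT b from h, ac_Tc (FV.iso b) (star_one F), add_right_inj] at h1
  have h2 := congrFun h1 i
  simp only [hf_ev_left, Fin.rev_rev, star_trivial, one_mul, Pi.smul_apply, smul_eq_mul] at h2
  exact H81.SU.sq_inj (by rw [pow_two, pow_two, h2])

theorem TT_comm {a b : Vn n F} (h : hf b a = 0) : TT a * TT b = TT b * TT a := by
  rw [← mul_inv_eq_iff_eq_mul, TT_conj, ac_Tc (FV.iso _) (star_one _), h, mul_zero, zero_smul,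
    add_zero]

theorem TT_P {y : Vn n F} (h : hf y (ev 0) = 0) : TT y ∈ PP n F := mem_Stab.2 (by
  rw [ac_Tc (FV.iso _) (star_one _), hf_symm h, mul_zero, zero_smul, add_zero])

theorem EE_Q {x : Vn n F} (h : hf x (ev 0) = 0) (c : F) : EE (ev 0) x c ∈ QQ n F :=
  (FV.mem_Qv _ _).2 ⟨x, c, h, rfl⟩

theorem xb_Q : xb n F ∈ QQ n F := EE_Q (hf_zero_left _) 1

theorem Q_sq (hu : u ∈ QQ n F) : u * u = 1 := by
  obtain ⟨x, c, h, rfl⟩ := (FV.mem_Qv _ _).1 hu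
  rw [← eq_inv_iff_mul_eq_one, EE_inv (FV.ok _ _ _ h), star_trivial]

theorem cz_eq : Cz (xb n F) = PP n F := FR.cz _ 1 (ev_ne 0) one_ne_zero

theorem TT_EE {y : Vn n F} (h : hf y (ev 0) = 0) : TT y * EE (ev 0) y 1 = TT (y + ev 0) :=
  ac_ext fun v => by
    simp only [ac_mul, ac_EE (FV.ok _ _ _ h), ac_Tc (FV.iso _) (star_one F), hf_add_left,
      hf_add_right, hf_smul_left, hf_symm h, show hf y y = 0 from FV.iso y]
    ext i
    simp only [Pi.add_apply, Pi.smul_apply, smul_eq_mul]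
    ring

/-- No conjugate of `TT y` under `Q` is `z TT y`. -/
theorem not_z {y : Vn n F} (h : Hy y) (y0 : y ≠ 0) (hu : u ∈ QQ n F) :
    u * TT y * u⁻¹ ≠ xb n F * TT y := fun k => by
  obtain ⟨x, c, hx, rfl⟩ := (FV.mem_Qv _ _).1 hu
  have l1 : hf (ev (la n) : Vn n F) (ev 0) = 1 := by rw [hf_ev, if_pos (Fin.rev_last n).symm]
  have l2 : hf (ev 0 : Vn n F) (ev (la n)) = 1 := by rw [← star_hf, l1, star_one]
  have := congrArg (fun g => ac g (ev (la n))) k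
  simp only [TT_conj, ac_EE_perp (FV.ok _ _ _ hx) h.1, ac_mul, ac_Tc (FV.iso _) (star_one F),
    hf_symm h.2, mul_zero, zero_smul, add_zero, hf_add_right, hf_smul_right, l1, zero_add, mul_one,
    star_trivial, one_mul, add_right_inj, one_smul] at this
  have h2 := congrArg (fun v => hf v (ev (la n))) this
  simp only [hf_smul_left, hf_add_left, h.2, l2, zero_add, mul_one] at h2
  rw [smul_add, smul_smul, h2, one_smul, add_eq_right, smul_eq_zero] at this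
  exact this.elim (fun a0 => by simp [a0] at h2) y0

theorem eq_one (hF : Nat.card F = 2) (hl : l ≠ 0) : l = 1 := by
  obtain ⟨y, -, k⟩ := (Nat.card_eq_two_iff' (0 : F)).1 hF
  rw [k l hl, k 1 one_ne_zero]

end X

variable {G : Type u} [Group G] [Finite G] {e : XU n F →* G} {t g m w k : G} {c : F}
  {x x' : XU n F}

/-- `x` is the projection of `a` along `⟨t⟩`. -/
def Rl (e : XU n F →* G) (t a : G) (x : XU n F) : Prop := a = e x ∨ a = t * e x

section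
variable (H : B1 e t)
include H

theorem mvt (a : XU n F) (h : m * t * m⁻¹ = t * e (Zc n c)) :
    e a * m * t * (e a * m)⁻¹ = t * e (a * Zc n c * a⁻¹) := by
  rw [mul_inv_rev, ← mul_assoc, mul_assoc _ m, mul_assoc (e a), h, ← conj_mul, H.conj_t, map_mul,
    map_mul, map_inv]

theorem tr_of {κ : F} (hw : w ∈ Cs ((QQ n F).map e)) (c0 : c ≠ 0)
    (h1 : w * t * w⁻¹ = t * e (Zc n c)) (h2 : ∀ y, Hy y → w * e (TT y) * w⁻¹ =
      e (TT y * EE (ev 0) ((κ * rt (1 + q0 y)) • y) (κ ^ 2 * q0 y))) :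
    Tr e t (κ * (rt c)⁻¹) := fun a => by
  by_cases a0 : a = 0
  · refine ⟨1, one_mem _, by simp [a0], fun y _ _ => by simp [a0]⟩
  have r0 : rt c ≠ 0 := H81.SU.rt_ne c0
  have r1 : rt c * rt c = c := by rw [← pow_two]; exact H81.SU.rt_sq c
  have l0 : a * (rt c)⁻¹ ≠ 0 := mul_ne_zero a0 (inv_ne_zero r0)
  refine ⟨e (hT n F (a * (rt c)⁻¹)) * w * (e (hT n F (a * (rt c)⁻¹)))⁻¹, conj_mem_of_mem_normalizer
    (normalizer_le_normalizer_centralizer _ (map_mem_Ns (h_NQ l0))) hw, ?_, fun y k1 k2 => ?_⟩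
  · have := mvt H (hT n F (a * (rt c)⁻¹)) h1
    rw [hz l0] at this
    rw [TT, Tc_smul, show nm a * 1 = a * (rt c)⁻¹ * (a * (rt c)⁻¹) * c by
      rw [nm, star_trivial]; nth_rewrite 3 [← r1]; field_simp, ← this, mul_assoc _ _ t, ← map_inv,
      ← H.comm, map_inv]
    group
  · have e1 := congrArg e (hy l0 ⟨k1, k2⟩)
    have e2 := EE_conj (FV.ok (ev 0) ((κ * rt (1 + q0 y)) • y) (κ ^ 2 * q0 y)
      (by rw [hf_smul_left, k1, mul_zero])) (hT n F (a * (rt c)⁻¹))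
    rw [(FV.tor _ l0).2.1, ac_smul, (FV.tor _ l0).2.2.2 y ⟨k1, k2⟩, EE_smul, smul_smul, nm,
      star_trivial] at e2
    rw [EE_smul, smul_smul, nm, star_trivial,
      show a * (κ * (rt c)⁻¹ * rt (1 + q0 y)) = a * (rt c)⁻¹ * (κ * rt (1 + q0 y)) by ring,
      show a * a * ((κ * (rt c)⁻¹) ^ 2 * q0 y) = a * (rt c)⁻¹ * (a * (rt c)⁻¹) * (κ ^ 2 * q0 y) by ring,
      ← e2]
    simp only [map_mul, map_inv] at e1 ⊢
    have e3 := h2 y ⟨k1, k2⟩
    rw [map_mul] at e3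
    generalize e (hT n F (a * (rt c)⁻¹)) = h at e1 ⊢
    calc _ = h * (w * (h⁻¹ * (h * e (TT y) * h⁻¹) * h) * w⁻¹) * h⁻¹ := by rw [e1]; group
      _ = h * (w * e (TT y) * w⁻¹) * h⁻¹ := by group
      _ = _ := by
        rw [e3]
        conv_rhs => rw [← e1]
        simp only [mul_assoc, inv_mul_cancel_left]

theorem rl_mul (h : Rl e t g x) (h' : Rl e t m x') : Rl e t (g * m) (x * x') := by
  rcases h with rfl | rfl <;> rcases h' with rfl | rfl
  · exact Or.inl (map_mul _ _ _).symm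
  · exact Or.inr (by rw [← mul_assoc, ← H.comm, map_mul, mul_assoc])
  · exact Or.inr (by rw [map_mul, mul_assoc])
  · exact Or.inl (by rw [H.comm, mul_assoc, ← mul_assoc t, H.inv.1, one_mul, map_mul])

theorem rl_uniq (h : Rl e t g x) (h' : Rl e t g x') : x = x' := by
  have k : ∀ a b, e a ≠ t * e b := fun a b k => H.not_mem FA.ns ⟨a * b⁻¹, by
    rw [map_mul, k, map_inv, mul_inv_cancel_right]⟩
  rcases h with rfl | rfl <;> rcases h' with h' | h'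
  exacts [H.inj h', (k _ _ h').elim, (k _ _ h'.symm).elim, H.inj (mul_left_cancel h')]

theorem rl_cj (h : Rl e t g x) (a : XU n F) : Rl e t (e a * g * (e a)⁻¹) (a * x * a⁻¹) := by
  refine h.imp (fun h => by simp [h]) fun h => ?_
  rw [h, ← conj_mul, H.conj_t]; simp

theorem rl_act (h : Rl e t g x) (s : XU n F) : Sc g (e s) (e (x * s * x⁻¹)) := by
  rcases h with rfl | rfl
  · simp [Sc]
  · rw [Sc, ← H.conj_eq (x * s * x⁻¹)]; simp only [map_mul, map_inv]; group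

theorem cjT {a b : Vn n F} (h : Sc w (e (TT a)) (e (TT b))) (j : XU n F) :
    Sc (e j * w * (e j)⁻¹) (e (TT (ac j a))) (e (TT (ac j b))) := by
  simpa only [← map_inv, ← map_mul, TT_conj] using h.cj (e j)

theorem cjt {a b : Vn n F} (h : Sc w (t * e (TT a)) (t * e (TT b))) (j : XU n F) :
    Sc (e j * w * (e j)⁻¹) (t * e (TT (ac j a))) (t * e (TT (ac j b))) := by
  have := h.cj (e j)
  rw [← conj_mul, ← conj_mul, H.conj_t] at this
  simpa only [← map_inv, ← map_mul, TT_conj] using this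

theorem cj0 {b : Vn n F} (h : Sc w t (t * e (TT b))) (j : XU n F) :
    Sc (e j * w * (e j)⁻¹) t (t * e (TT (ac j b))) := by
  have := h.cj (e j)
  rw [← conj_mul, H.conj_t] at this
  simpa only [← map_inv, ← map_mul, TT_conj] using this

omit H in
theorem back (h1 : Sc m t (t * e (xb n F))) (h2 : Sc m (e (xb n F)) (e (xb n F))) :
    Sc m (t * e (xb n F)) t := by
  have := h1.mul h2
  rwa [mul_assoc t, ← map_mul, TT_sq, map_one, mul_one] at this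

end

section
variable (H : CH e t)
include H

theorem ct (h : Sc k t t) : ∃ x, Rl e t k x := by
  have hk : k ∈ Cz t := mem_Cz.2 (mul_inv_eq_iff_eq_mul.1 h).symm
  obtain ⟨β, hβ⟩ := H59.SO.exists_ind H.inj (H.cz hk)
  obtain ⟨x, rfl⟩ := FA.two H.q2 β
  exact ⟨x, (H.ck _ (mul_mem hk (inv_mem (H.toB1.mem_Cz x))) (H59.SO.ind_conj_iff.1 hβ)).imp
    mul_inv_eq_one.1 mul_inv_eq_iff_eq_mul.1⟩

theorem lin (h : Sc k t t) {a b a' b' d : Vn n F} (h1 : Sc k (e (TT a)) (e (TT a')))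
    (h2 : Sc k (e (TT b)) (e (TT b'))) (h3 : Sc k (e (TT (a + b))) (e (TT d))) : d = a' + b' := by
  obtain ⟨x, hx⟩ := ct H h
  have k0 : ∀ {a a' : Vn n F}, Sc k (e (TT a)) (e (TT a')) → a' = ac x a := fun h =>
    TT_inj ((H.inj (h.uniq (rl_act H.toB1 hx _))).trans (TT_conj _ _))
  rw [k0 h1, k0 h2, k0 h3, ac_add]

theorem theta (h1 : Sc m t (t * e (xb n F))) (h2 : Sc m (e (xb n F)) (e (xb n F))) :
    ∃ θ, AutOn (PP n F) θ ∧ ∀ p ∈ PP n F, Rl e t (m * e p * m⁻¹) (θ p) := by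
  have : Finite (XU n F) := Finite.of_injective e H.inj
  have h3 := back h1 h2
  have h4 : ∀ p ∈ PP n F, ∃ x ∈ PP n F, Rl e t (m * e p * m⁻¹) x := fun p hp => by
    have k1 : Sc (e p) (e (xb n F)) (e (xb n F)) := by
      rw [Sc, ← map_inv, ← map_mul, ← map_mul, Px hp]
    have k2 := ((show Sc (e p) t t from H.toB1.conj_t p).mul k1).cj m
    have k3 := k1.cj m
    rw [h3] at k2
    rw [h2] at k3
    obtain ⟨x, hx⟩ := ct H k2
    refine ⟨x, cz_eq.le (mem_Cz.2 ?_), hx⟩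
    exact (mul_inv_eq_iff_eq_mul.1 (H.inj ((rl_act H.toB1 hx _).uniq k3))).symm
  choose! θ k1 k2 using h4
  have k3 : ∀ a b, m * e a * m⁻¹ ≠ t * (m * e b * m⁻¹) := fun a b k => by
    rw [← h3, conj_mul, mul_left_inj, mul_right_inj, mul_assoc, ← map_mul] at k
    exact H.toB1.not_mem FA.ns ⟨a * (xb n F * b)⁻¹, by rw [map_mul, k, map_inv, mul_inv_cancel_right]⟩
  refine ⟨θ, ⟨((Set.toFinite _).injOn_iff_bijOn_of_mapsTo k1).1 fun a ha b hb h => ?_,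
    fun a ha b hb => rl_uniq H.toB1 (k2 _ (mul_mem ha hb)) ?_⟩, k2⟩
  · rcases k2 a ha with p | p <;> rcases k2 b hb with q | q <;> rw [← h] at q
    · exact H.inj (by simpa using p.trans q.symm)
    · exact (k3 b a (by rw [p, q])).elim
    · exact (k3 a b (by rw [p, q])).elim
    · exact H.inj (by simpa using p.trans q.symm)
  · rw [map_mul, ← conj_mul]
    exact rl_mul H.toB1 (k2 a ha) (k2 b hb)

/-- `FB` and `QE`: an element that centralises `Q`. -/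
theorem step1 (qe : QE n F) (fb : FB n F) (h1 : Sc g t (t * e (xb n F)))
    (h2 : Sc g (e (xb n F)) (e (xb n F))) (gQ : g ∈ Ns ((QQ n F).map e)) :
    ∃ m, Sc m t (t * e (xb n F)) ∧ ∀ u ∈ QQ n F, Sc m (e u) (e u) := by
  obtain ⟨θ, a1, hθ⟩ := theta H h1 h2
  obtain ⟨p, hp, k⟩ := fb H.q2 θ a1
  have m1 := mvt H.toB1 p⁻¹ h1
  rw [Px (inv_mem hp)] at m1
  have m2 := mul_mem (map_mem_Ns (e := e) (PQ (inv_mem hp))) gQ
  have m3 : ∀ y ∈ PP n F, ∃ ζ ∈ QQ n F, Rl e t (e p⁻¹ * g * e y * (e p⁻¹ * g)⁻¹) (ζ * y) :=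
    fun y hy => ⟨_, conj_mem_of_mem_normalizer' (PQ hp) (k y hy), by
      convert rl_cj H.toB1 (hθ y hy) p⁻¹ using 1 <;> group⟩
  generalize e p⁻¹ * g = m at m1 m2 m3
  obtain ⟨φ, a2, hφ⟩ := exists_autOn H.inj m2
  obtain ⟨l, l0, hl⟩ := qe φ a2 fun p hp u hu => by
    obtain ⟨ζ, hζ, e1⟩ := m3 p hp
    rw [← Qcomm hζ (conj_mem_of_mem_normalizer (PQ hp) (a2.bij.1 hu))]
    refine H.inj ?_
    have e2 := rl_act H.toB1 e1 (φ u)
    rw [Sc, ← hφ u hu] at e2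
    rw [← hφ _ (conj_mem_of_mem_normalizer (PQ hp) hu),
      show ζ * (p * φ u * p⁻¹) * ζ⁻¹ = ζ * p * φ u * (ζ * p)⁻¹ by group, ← e2]
    simp only [map_mul, map_inv]
    group
  refine ⟨m, m1, fun u hu => ?_⟩
  rw [Sc, hφ u hu, hl u hu, eq_one H.q2 l0]
  obtain ⟨x, c, hx, rfl⟩ := (FV.mem_QQ _).1 hu
  rw [EE_conj (FV.ok _ _ _ hx.1), (FV.tor _ one_ne_zero).2.1, (FV.tor _ one_ne_zero).2.2.2 x hx,
    one_smul]

/-- `COC`; the `t`-part is trivial. -/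
theorem step2 (coc : COC n F) (h1 : Sc m t (t * e (xb n F))) (h2 : ∀ u ∈ QQ n F, Sc m (e u) (e u)) :
    ∃ (w : G) (κ δ : F), Sc w t (t * e (xb n F)) ∧ (∀ u ∈ QQ n F, Sc w (e u) (e u)) ∧
      ∀ y, Hy y → y ≠ 0 → Sc w (e (TT y))
        (e (TT y * EE (ev 0) ((κ * rt (1 + q0 y)) • y) (κ ^ 2 * q0 y + δ))) := by
  obtain ⟨θ, a1, hθ⟩ := theta H h1 (h2 _ xb_Q)
  obtain ⟨ζ, hζ, κ, δ, k⟩ := coc θ a1 fun u hu => rl_uniq H.toB1 (hθ u (QP hu)) (Or.inl (h2 u hu))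
  have w1 : Sc _ _ _ := mvt H.toB1 ζ⁻¹ h1
  rw [Px (inv_mem (QP hζ))] at w1
  have w2 : ∀ u ∈ QQ n F, Sc (e ζ⁻¹ * m) (e u) (e u) := fun u hu => (h2 u hu).comp (by
    rw [Sc, ← map_inv, ← map_mul, ← map_mul, Qcomm (inv_mem hζ) hu])
  have w3 : ∀ y, Hy y → y ≠ 0 → Rl e t (e ζ⁻¹ * m * e (TT y) * (e ζ⁻¹ * m)⁻¹)
      (TT y * EE (ev 0) ((κ * rt (1 + q0 y)) • y) (κ ^ 2 * q0 y + δ)) := fun y hy y0 => by
    have := rl_cj H.toB1 (hθ _ (TT_P hy.1)) ζ⁻¹
    rw [k y hy y0] at this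
    convert this using 1 <;> group
  generalize e ζ⁻¹ * m = w at w1 w2 w3
  refine ⟨w, κ, δ, w1, w2, fun y hy y0 => (w3 y hy y0).resolve_right fun k1 => ?_⟩
  obtain ⟨x, hx⟩ := ct H (w1.comp (back w1 (w2 _ xb_Q)))
  have xQ : x ∈ QQ n F := (FR.cq _ (ev_ne 0)).le (mem_Cs.2 fun u hu => (mul_inv_eq_iff_eq_mul.1
    (H.inj ((rl_act H.toB1 hx u).uniq ((w2 u hu).comp (w2 u hu))))).symm)
  have hE : EE (ev 0) ((κ * rt (1 + q0 y)) • y) (κ ^ 2 * q0 y + δ) ∈ QQ n F :=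
    EE_Q (by rw [hf_smul_left, hy.1, mul_zero]) _
  generalize EE (ev 0) ((κ * rt (1 + q0 y)) • y) (κ ^ 2 * q0 y + δ) = E at k1 hE
  have k2 : Sc w _ _ := k1
  have k3 := w1.mul (k2.mul (w2 E hE))
  rw [← map_mul] at k3
  refine not_z hy y0 xQ (H.inj (((rl_act H.toB1 hx _).uniq (k2.comp k3)).trans ?_))
  rw [mul_assoc t (e (_ * _)), ← map_mul, mul_assoc (TT y), Q_sq hE, mul_one, H.toB1.comm,
    mul_assoc, ← mul_assoc t, H.inv.1, one_mul, map_mul]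

end

section Six
variable {F : Type} [Field F] [StarRing F] [TrivialStar F] [CharP F 2] [Finite F] [Base 5 F]
  {e : XU 5 F →* G} (H : CH e t)

theorem geo : ∃ h j : XU 5 F, j ∈ QQ 5 F ∧ ac h (ev 0) = ev 1 ∧ ac h (ev 1) = ev 0 ∧
    ac h (ev 2) = ev 2 ∧ ac j (ev 1) = ev 1 + ev 0 ∧ ac j (ev 2) = ev 2 + ev 0 := by
  obtain ⟨h, hh⟩ := FV.perm (n := 5) (F := F) (Equiv.swap 0 1 * Equiv.swap 4 5) (by decide)
  have k : hf (ev 3 + ev 4 : Vn 5 F) (ev 0) = 0 := by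
    rw [hf_add_left, hf_ev, hf_ev, if_neg (by decide), if_neg (by decide), add_zero]
  refine ⟨h, _, EE_Q k 0, hh 0, hh 1, hh 2, ?_, ?_⟩ <;>
  · rw [ac_EE_perp (FV.ok _ _ _ k) (by rw [hf_ev, if_neg (by decide)]), hf_add_right, hf_ev, hf_ev]
    simp only [Fin.ext_iff]
    simp

theorem hy1 : Hy (ev 1 : Vn 5 F) := by constructor <;> rw [hf_ev, if_neg (by decide)]
theorem hy2 : Hy (ev 2 : Vn 5 F) := by constructor <;> rw [hf_ev, if_neg (by decide)]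
theorem hy3 : Hy (ev 1 + ev 2 : Vn 5 F) :=
  ⟨by rw [hf_add_left, hy1.1, hy2.1, add_zero], by rw [hf_add_left, hy1.2, hy2.2, add_zero]⟩
theorem ne3 : (ev 1 + ev 2 : Vn 5 F) ≠ 0 := fun h => by simpa [ev_apply] using congrFun h 1
theorem q3 : q0 (ev 1 + ev 2 : Vn 5 F) = 0 := by
  rw [FV.q0_add, FV.q0_ev, FV.q0_ev, hf_ev, if_neg (by decide)]; simp
theorem ne01 : (ev 0 + ev 2 : Vn 5 F) ≠ ev 1 + ev 2 := fun h => by
  simpa [ev_apply] using congrFun h 1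

include H

theorem no0 (w1 : Sc w t (t * e (xb 5 F))) (w2 : ∀ u ∈ QQ 5 F, Sc w (e u) (e u))
    (w3 : ∀ y, Hy y → y ≠ 0 → q0 y = 0 → Sc w (e (TT y)) (e (TT y * xb 5 F))) : False := by
  obtain ⟨h, j, jQ, h0, h1, h2, -, j2⟩ := geo (F := F)
  have w4 : ∀ y, Hy y → y ≠ 0 → q0 y = 0 → Sc w (t * e (TT y)) (t * e (TT y)) := fun y a b c => by
    have := w1.mul (w3 y a b c)
    rwa [mul_assoc t, ← map_mul, ← mul_assoc, TT_comm a.1, mul_assoc (TT y), TT_sq, mul_one] at this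
  have a0 := back w1 (w2 _ xb_Q)
  have a1 := w4 _ hy1 (ev_ne _) (FV.q0_ev _)
  have a2 := w4 _ hy2 (ev_ne _) (FV.q0_ev _)
  have a3 := cjt H.toB1 a2 j
  have b0 := cj0 H.toB1 w1 h
  have b1 := cjt H.toB1 a1 h
  have b2 := cjt H.toB1 a2 h
  have b3 := cjt H.toB1 (w4 _ hy3 ne3 q3) h
  rw [(w2 j jQ).swap, j2, add_comm (ev 2)] at a3
  rw [h0] at b0
  rw [h1] at b1
  rw [h2] at b2
  rw [ac_add, h1, h2] at b3
  have k := (a0.inv.comp b1).comp a0
  exact ne01 (lin H k (k.cancel ((w1.inv.comp b0).comp a1)) (k.cancel ((a2.inv.comp b2).comp a2))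
    (k.cancel ((a3.inv.comp b3).comp a3)))

theorem no1 (w1 : Sc w t (t * e (xb 5 F))) (w2 : ∀ u ∈ QQ 5 F, Sc w (e u) (e u))
    (w3 : ∀ y, Hy y → y ≠ 0 → q0 y = 0 → Sc w (e (TT y)) (e (TT (y + ev 0)))) : False := by
  obtain ⟨h, j, jQ, h0, h1, h2, j1, j2⟩ := geo (F := F)
  have j0 : ac j (ev 0) = ev 0 := QP jQ
  have w4 : ∀ y, Hy y → y ≠ 0 → q0 y = 0 → Sc (e j * w) (e (TT y)) (e (TT (ac j y + ev 0))) :=
    fun y a b c => (w3 y a b c).comp (by
      rw [Sc, ← map_inv, ← map_mul, ← map_mul, TT_conj, ac_add, j0])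
  have w5 : ∀ u ∈ QQ 5 F, Sc (e j * w) (e u) (e u) := fun u hu => (w2 u hu).comp (by
    rw [Sc, ← map_inv, ← map_mul, ← map_mul, Qcomm jQ hu])
  have w6 : Sc _ _ _ := mvt H.toB1 j w1
  rw [Px (QP jQ)] at w6
  generalize e j * w = A at w4 w5 w6
  have a0 := w5 _ xb_Q
  have a1 := w4 _ hy1 (ev_ne _) (FV.q0_ev _)
  have a2 := w4 _ hy2 (ev_ne _) (FV.q0_ev _)
  have a3 := w4 _ hy3 ne3 q3
  rw [j1, add_assoc, v_add_self, add_zero] at a1
  rw [j2, add_assoc, v_add_self, add_zero] at a2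
  rw [ac_add, j1, j2, add_add_add_comm, v_add_self, add_zero] at a3
  have a4 := cjT H.toB1 a2 j
  rw [(w5 j jQ).swap, j2, add_comm (ev 2)] at a4
  have b := cj0 H.toB1 w6 h
  have b0 := cjT H.toB1 a0 h
  have b1 := cjT H.toB1 a1 h
  have b2 := cjT H.toB1 a2 h
  have b3 := cjT H.toB1 a3 h
  have b4 := cjT H.toB1 a4 h
  simp only [ac_add, h0, h1, h2] at b b0 b1 b2 b3 b4
  rw [show (ev 0 + ev 2 + ev 1 : Vn 5 F) = ev 1 + ev 2 + ev 0 by abel] at b3
  have c1 := b.mul b1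
  rw [mul_assoc t, ← map_mul, ← TT_comm hy1.1, map_mul, ← mul_assoc] at c1
  exact ne01 (lin H (((b.comp (w6.mul a1)).comp c1.inv).comp w6.inv)
    (((b0.comp a1).comp b0.inv).comp a1.inv) (((b2.comp a2).comp b2.inv).comp a2.inv)
    (((b4.comp a3).comp b3.inv).comp a4.inv))

end Six

theorem jobP2a : JobP2a.{u} := by
  intro n F _ _ _ _ _ P G _ _ e t _ _ qe coc fb H hB
  obtain rfl : n = 5 := P.six
  obtain ⟨g, h1, h2⟩ := hB
  have h3 := mul_inv_eq_iff_eq_mul.2 h2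
  have gQ : g ∈ Ns ((QQ 5 F).map e) := by
    have := (ab H.toCE.b0).edge g _ _ h1 h3
    rw [cz_eq] at this
    rw [(FC.ob (n := 5) (F := F)).eq, map_pCoreOf_of_injective H.inj]
    exact normalizer_le_normalizer_pCoreOf _ (cj_eq_self_iff.1 this)
  obtain ⟨m, m1, m2⟩ := step1 H qe fb h1 h3 gQ
  obtain ⟨w, κ, δ, w1, w2, w3⟩ := step2 H coc m1 m2
  obtain rfl : δ = 0 := by
    by_contra d
    have r : rt (1 : F) = 1 := eq_one H.q2 (H81.SU.rt_ne one_ne_zero)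
    obtain rfl := eq_one H.q2 d
    by_cases k : κ = 0
    · exact no0 H w1 w2 fun y a b c => by simpa [k] using w3 y a b
    · obtain rfl := eq_one H.q2 k
      exact no1 H w1 w2 fun y a b c => by simpa [c, r, TT_EE a.1] using w3 y a b
  refine ⟨_, tr_of H.toB1 (κ := κ) (mem_Cs_map.2 fun y hy => (mul_inv_eq_iff_eq_mul.1 (w2 y hy)).symm)
    one_ne_zero w1 fun y hy => ?_⟩
  by_cases y0 : y = 0
  · simp [y0, show q0 (0 : Vn 5 F) = 0 by simp [q0]]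
  · simpa only [add_zero, Sc] using w3 y hy y0

end H92.SpP
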